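import Groth.Agent.Lib.RedPts.Ga
import Groth.Agent.Lib.RedPts.Gm
import Mathlib.AlgebraicGeometry.Morphisms.Flat
/-!
# Formal consequences of the rank-one commutation rule
-/

set_option autoImplicit false
universe u

open CategoryTheory MonoidalCategory CartesianMonoidalCategory MonObj GrpObj AlgebraicGeometry
open Groth.Agent.Lib.RedPts

namespace Groth.Agent.H82.RankOne

variable {S : Scheme.{u}} {G T : Over S} [GrpObj G] [GrpObj T]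

/-- `pp(a)` for a function `a`. -/
noncomputable def P (pp : Red.Ga S ⟶ G) {X : Over S} (a : Γ(X.left, ⊤)) : X ⟶ G := Ga.gaPt a ≫ pp

theorem P_eq (pp : Red.Ga S ⟶ G) {X : Over S} (x : X ⟶ Red.Ga S) : x ≫ pp = P pp (Red.gaFn x) := by
  rw [P, ← Ga.eq_gaPt x rfl]

theorem P_add (pp : Red.Ga S ⟶ G) [IsMonHom pp] {X : Over S} (a b : Γ(X.left, ⊤)) :
    P pp (a + b) = P pp a * P pp b := by
  rw [P, Ga.gaPt_add, MonObj.mul_comp]; rfl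

theorem P_zero (pp : Red.Ga S ⟶ G) [IsMonHom pp] {X : Over S} : P pp (0 : Γ(X.left, ⊤)) = 1 := by
  have h := P_add pp (0 : Γ(X.left, ⊤)) 0
  rw [add_zero] at h
  exact left_eq_mul.1 h

theorem P_neg (pp : Red.Ga S ⟶ G) [IsMonHom pp] {X : Over S} (a : Γ(X.left, ⊤)) :
    P pp (-a) = (P pp a)⁻¹ := by
  rw [eq_inv_iff_mul_eq_one, ← P_add, neg_add_cancel, P_zero]

theorem P_comp (pp : Red.Ga S ⟶ G) {X X' : Over S} (h : X' ⟶ X) (a : Γ(X.left, ⊤)) :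
    h ≫ P pp a = P pp (h.left.appTop a) := by
  rw [P, ← Category.assoc, P_eq, Ga.gaFn_comp, Ga.gaFn_gaPt]

theorem gmPt_eq {X : Over S} (z : X ⟶ Red.Gm S) {u : Γ(X.left, ⊤)ˣ} (h : Red.gmFn z = u) :
    z = Gm.gmPt u :=
  Gm.gmFn_injective (by rw [h, Gm.gmFn_gmPt])

theorem gmPt_mul {X : Over S} (u v : Γ(X.left, ⊤)ˣ) : Gm.gmPt (u * v) = Gm.gmPt u * Gm.gmPt v :=
  Gm.gmFn_injective (by simp [Gm.gmFn_mul])

theorem gmPt_one {X : Over S} : Gm.gmPt (1 : Γ(X.left, ⊤)ˣ) = 1 :=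
  Gm.gmFn_injective (by simp [Gm.gmFn_one])

theorem gmPt_inv {X : Over S} (u : Γ(X.left, ⊤)ˣ) : Gm.gmPt u⁻¹ = (Gm.gmPt u)⁻¹ := by
  rw [eq_inv_iff_mul_eq_one, ← gmPt_mul, inv_mul_cancel, gmPt_one]

theorem gmPt_comp {X X' : Over S} (h : X' ⟶ X) (u : Γ(X.left, ⊤)ˣ) :
    h ≫ Gm.gmPt u = Gm.gmPt (Units.map h.left.appTop.hom.toMonoidHom u) :=
  Gm.gmFn_injective (by simp [Gm.gmFn_comp])

/-- The rank-one hypotheses in the form used in the computations. -/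
structure Sys (i : T ⟶ G) (α : T ⟶ Red.Gm S) (pp pm : Red.Ga S ⟶ G) (av : Red.Gm S ⟶ T) : Prop where
  conjP : ∀ {X : Over S} (t : X ⟶ T) (a : Γ(X.left, ⊤)),
    (t ≫ i) * P pp a = P pp (Red.gmFn (t ≫ α) * a) * (t ≫ i)
  conjM : ∀ {X : Over S} (t : X ⟶ T) (b : Γ(X.left, ⊤)),
    (t ≫ i) * P pm b = P pm (Red.gmFn (t ≫ α⁻¹) * b) * (t ≫ i)
  sq : ∀ {X : Over S} (u : Γ(X.left, ⊤)ˣ),
    Red.gmFn ((Gm.gmPt u ≫ av) ≫ α) = (u : Γ(X.left, ⊤)) * (u : Γ(X.left, ⊤))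
  av_mul : ∀ {X : Over S} (u v : Γ(X.left, ⊤)ˣ),
    Gm.gmPt (u * v) ≫ av = (Gm.gmPt u ≫ av) * (Gm.gmPt v ≫ av)
  rule : ∀ {X : Over S} (a b : Γ(X.left, ⊤)) (u : Γ(X.left, ⊤)ˣ), (u : Γ(X.left, ⊤)) = 1 + a * b →
    P pp a * P pm b = P pm (b * (↑u⁻¹ : Γ(X.left, ⊤))) * (Gm.gmPt u ≫ av ≫ i) *
      P pp (a * (↑u⁻¹ : Γ(X.left, ⊤)))

theorem sys_of_hyp {i : T ⟶ G} [IsMonHom i] {α : T ⟶ Red.Gm S} [IsMonHom α]
    {pp pm : Red.Ga S ⟶ G} {av : Red.Gm S ⟶ T} [IsMonHom av]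
    (hpp : ∀ (X : Over S) (t : X ⟶ T) (x : X ⟶ Red.Ga S), ∃ x' : X ⟶ Red.Ga S,
      x' ≫ pp = (t ≫ i) * (x ≫ pp) * (t ≫ i)⁻¹ ∧ Red.gaFn x' = Red.gmFn (t ≫ α) * Red.gaFn x)
    (hpm : ∀ (X : Over S) (t : X ⟶ T) (y : X ⟶ Red.Ga S), ∃ y' : X ⟶ Red.Ga S,
      y' ≫ pm = (t ≫ i) * (y ≫ pm) * (t ≫ i)⁻¹ ∧ Red.gaFn y' * Red.gmFn (t ≫ α) = Red.gaFn y)
    (h2 : av ≫ α = (𝟙 (Red.Gm S)) ^ 2)
    (hF : ∀ (X : Over S) (x y : X ⟶ Red.Ga S), IsUnit (1 + Red.gaFn x * Red.gaFn y) →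
      ∃ (x' y' : X ⟶ Red.Ga S) (z : X ⟶ Red.Gm S), Red.gmFn z = 1 + Red.gaFn x * Red.gaFn y ∧
        Red.gaFn x' * Red.gmFn z = Red.gaFn x ∧ Red.gaFn y' * Red.gmFn z = Red.gaFn y ∧
        (x ≫ pp) * (y ≫ pm) = (y' ≫ pm) * (z ≫ av ≫ i) * (x' ≫ pp)) :
    Sys i α pp pm av where
  conjP {X} t a := by
    obtain ⟨x', h, h'⟩ := hpp X t (Ga.gaPt a)
    rw [Ga.gaFn_gaPt] at h'
    rw [P_eq, h', P_eq, Ga.gaFn_gaPt] at h
    rw [h, inv_mul_cancel_right]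
  conjM {X} t b := by
    obtain ⟨y', h, h'⟩ := hpm X t (Ga.gaPt b)
    rw [Ga.gaFn_gaPt] at h'
    have : Red.gaFn y' = Red.gmFn (t ≫ α⁻¹) * b := by
      rw [GrpObj.comp_inv, ← h', mul_left_comm, Gm.gmFn_inv_mul_gmFn, _root_.mul_one]
    rw [P_eq, this, P_eq, Ga.gaFn_gaPt] at h
    rw [h, inv_mul_cancel_right]
  sq u := by
    rw [Category.assoc, h2, MonObj.comp_pow, Category.comp_id, Gm.gmFn_pow, Gm.gmFn_gmPt, pow_two]
  av_mul u v := by rw [gmPt_mul, MonObj.mul_comp]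
  rule {X} a b u hu := by
    obtain ⟨x', y', z, hz, hx', hy', h⟩ := hF X (Ga.gaPt a) (Ga.gaPt b)
      (by simpa [← hu] using u.isUnit)
    simp only [Ga.gaFn_gaPt, ← hu] at hz hx' hy'
    rw [hz] at hx' hy'
    rw [← Units.eq_mul_inv_iff_mul_eq] at hx' hy'
    rw [P_eq, P_eq, P_eq, P_eq, hx', hy', Ga.gaFn_gaPt, Ga.gaFn_gaPt, gmPt_eq z hz] at h
    exact h

namespace Sys

variable {i : T ⟶ G} {α : T ⟶ Red.Gm S} {pp pm : Red.Ga S ⟶ G} {av : Red.Gm S ⟶ T}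
  [IsMonHom i]

/-- `av(u)` in `G`. -/
noncomputable def H (i : T ⟶ G) (av : Red.Gm S ⟶ T) {X : Over S} (u : Γ(X.left, ⊤)ˣ) : X ⟶ G :=
  Gm.gmPt u ≫ av ≫ i

theorem H_mul (hs : Sys i α pp pm av) {X : Over S} (u v : Γ(X.left, ⊤)ˣ) :
    H i av (u * v) = H i av u * H i av v := by
  simp only [H, ← Category.assoc, hs.av_mul, MonObj.mul_comp]

theorem H_one (hs : Sys i α pp pm av) {X : Over S} : H i av (1 : Γ(X.left, ⊤)ˣ) = 1 := by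
  have h := hs.H_mul (X := X) 1 1
  rw [_root_.mul_one] at h
  exact left_eq_mul.1 h

theorem H_inv (hs : Sys i α pp pm av) {X : Over S} (u : Γ(X.left, ⊤)ˣ) :
    H i av u⁻¹ = (H i av u)⁻¹ := by
  rw [eq_inv_iff_mul_eq_one, ← hs.H_mul, inv_mul_cancel, hs.H_one]

theorem H_P (hs : Sys i α pp pm av) {X : Over S} (u : Γ(X.left, ⊤)ˣ) (a : Γ(X.left, ⊤)) :
    H i av u * P pp a = P pp ((u : Γ(X.left, ⊤)) * (u : Γ(X.left, ⊤)) * a) * H i av u := by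
  have := hs.conjP (Gm.gmPt u ≫ av) a
  rw [hs.sq, Category.assoc] at this
  exact this

theorem gmFn_inv_of {X : Over S} (z : X ⟶ Red.Gm S) (u : Γ(X.left, ⊤)ˣ) (h : Red.gmFn z = u) :
    Red.gmFn z⁻¹ = ↑u⁻¹ := by
  refine (Units.inv_eq_of_mul_eq_one_right ?_).symm
  rw [← h]; exact Gm.gmFn_mul_gmFn_inv z

theorem H_M (hs : Sys i α pp pm av) {X : Over S} (u : Γ(X.left, ⊤)ˣ) (b : Γ(X.left, ⊤)) :
    H i av u * P pm b = P pm ((↑u⁻¹ : Γ(X.left, ⊤)) * (↑u⁻¹ : Γ(X.left, ⊤)) * b) * H i av u := by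
  have := hs.conjM (Gm.gmPt u ≫ av) b
  rw [GrpObj.comp_inv, gmFn_inv_of _ (u * u) (by rw [hs.sq, Units.val_mul]),
    _root_.mul_inv_rev, Units.val_mul, Category.assoc] at this
  exact this

variable [IsMonHom pp] [IsMonHom pm]

/-- `pp(x) pm(-1/x) pp(x)`. -/
noncomputable def W (pp pm : Red.Ga S ⟶ G) {X : Over S} (x : Γ(X.left, ⊤)ˣ) : X ⟶ G :=
  P pp (x : Γ(X.left, ⊤)) * P pm (-(↑x⁻¹ : Γ(X.left, ⊤))) * P pp (x : Γ(X.left, ⊤))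

theorem W_neg {X : Over S} (x : Γ(X.left, ⊤)ˣ) : W pp pm (-x) = (W pp pm x)⁻¹ := by
  simp only [W, Units.val_neg, inv_neg, P_neg, _root_.inv_inv, _root_.mul_inv_rev, _root_.mul_assoc]

theorem W_mul (hs : Sys i α pp pm av) {X : Over S} (z x : Γ(X.left, ⊤)ˣ) :
    W pp pm (z * x) = H i av z * W pp pm x := by
  rw [← mul_inv_eq_iff_eq_mul, ← W_neg]
  have h1 := hs.rule ((z : Γ(X.left, ⊤)) * (x : Γ(X.left, ⊤)) + -(x : Γ(X.left, ⊤))) (↑x⁻¹ : Γ(X.left, ⊤)) z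
    (by linear_combination (1 - (z : Γ(X.left, ⊤))) * x.mul_inv)
  simp only [W, Units.val_mul, Units.val_neg, neg_neg, inv_neg, _root_.mul_inv_rev]
  generalize hA : (z : Γ(X.left, ⊤)) * (x : Γ(X.left, ⊤)) = A at h1 ⊢
  generalize hc : (↑x⁻¹ : Γ(X.left, ⊤)) * (↑z⁻¹ : Γ(X.left, ⊤)) = c at h1 ⊢
  calc P pp A * P pm (-c) * P pp A * (P pp (-(x : Γ(X.left, ⊤))) * P pm (↑x⁻¹ : Γ(X.left, ⊤)) *
          P pp (-(x : Γ(X.left, ⊤))))
      = P pp A * P pm (-c) * (P pp (A + -(x : Γ(X.left, ⊤))) * P pm (↑x⁻¹ : Γ(X.left, ⊤))) *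
          P pp (-(x : Γ(X.left, ⊤))) := by
        simp only [P_add, _root_.mul_assoc]
    _ = P pp A * (H i av z *
          P pp ((A + -(x : Γ(X.left, ⊤))) * (↑z⁻¹ : Γ(X.left, ⊤)) + -(x : Γ(X.left, ⊤)))) := by
        rw [h1, P_neg pm, P_add pp (_ * _)]; simp [H, _root_.mul_assoc]
    _ = P pp (A + (z : Γ(X.left, ⊤)) * (z : Γ(X.left, ⊤)) *
          ((A + -(x : Γ(X.left, ⊤))) * (↑z⁻¹ : Γ(X.left, ⊤)) + -(x : Γ(X.left, ⊤)))) * H i av z := by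
        rw [P_add pp A, hs.H_P]; exact (_root_.mul_assoc _ _ _).symm
    _ = H i av z := by
        rw [show A + (z : Γ(X.left, ⊤)) * (z : Γ(X.left, ⊤)) *
          ((A + -(x : Γ(X.left, ⊤))) * (↑z⁻¹ : Γ(X.left, ⊤)) + -(x : Γ(X.left, ⊤))) = 0 by
            rw [← hA]
            linear_combination ((z : Γ(X.left, ⊤)) * ((z : Γ(X.left, ⊤)) * (x : Γ(X.left, ⊤)) - x)) * z.mul_inv,
          P_zero, _root_.one_mul]

/-- `α(t)` as a unit. -/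
noncomputable def au (α : T ⟶ Red.Gm S) {X : Over S} (t : X ⟶ T) : Γ(X.left, ⊤)ˣ :=
  (Gm.isUnit_gmFn (t ≫ α)).unit

theorem conj_W (hs : Sys i α pp pm av) {X : Over S} (t : X ⟶ T) (x : Γ(X.left, ⊤)ˣ) :
    (t ≫ i) * W pp pm x = W pp pm (au α t * x) * (t ≫ i) := by
  have ha : Red.gmFn (t ≫ α) = au α t := (Gm.isUnit_gmFn (t ≫ α)).unit_spec.symm
  simp only [W, ← _root_.mul_assoc]
  rw [hs.conjP, _root_.mul_assoc (P pp _) (t ≫ i), hs.conjM, ← _root_.mul_assoc,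
    _root_.mul_assoc (P pp _ * P pm _) (t ≫ i), hs.conjP, ← _root_.mul_assoc, GrpObj.comp_inv,
    gmFn_inv_of _ _ ha, ha, _root_.mul_inv_rev, Units.val_mul, Units.val_mul, mul_neg,
    mul_comm (↑(au α t)⁻¹ : Γ(X.left, ⊤)) ↑x⁻¹]

theorem H_au (hs : Sys i α pp pm av) {X : Over S} (t : X ⟶ T) :
    H i av (au α t) = t ≫ α ≫ av ≫ i := by
  rw [H, au, ← gmPt_eq (t ≫ α) (Gm.isUnit_gmFn (t ≫ α)).unit_spec.symm, Category.assoc]

theorem W_conj (hs : Sys i α pp pm av) {X : Over S} (t : X ⟶ T) (x : Γ(X.left, ⊤)ˣ) :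
    W pp pm x * (t ≫ i) * (W pp pm x)⁻¹ = (t ≫ α ≫ av ≫ i)⁻¹ * (t ≫ i) := by
  have h := hs.conj_W t x
  rw [hs.W_mul, hs.H_au] at h
  rw [mul_inv_eq_iff_eq_mul, _root_.mul_assoc _ (t ≫ i), h]
  simp [_root_.mul_assoc]

theorem W_mul_H (hs : Sys i α pp pm av) {X : Over S} (z x : Γ(X.left, ⊤)ˣ) :
    W pp pm x * H i av z = (H i av z)⁻¹ * W pp pm x := by
  have h := hs.W_conj (Gm.gmPt z ≫ av) x
  rw [← hs.H_au] at h
  have e : au α (Gm.gmPt z ≫ av) = z * z := Units.ext (by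
    rw [au, IsUnit.unit_spec, hs.sq, Units.val_mul])
  rw [e, Category.assoc] at h
  change W pp pm x * H i av z * _ = (H i av (z * z))⁻¹ * H i av z at h
  rw [hs.H_mul, _root_.mul_inv_rev, inv_mul_cancel_right, mul_inv_eq_iff_eq_mul] at h
  exact h

theorem W_mul_W (hs : Sys i α pp pm av) {X : Over S} (x y m : Γ(X.left, ⊤)ˣ) (hm : m * y = -x) :
    W pp pm x * W pp pm y = H i av m := by
  have : x = m * -y := by rw [mul_neg, hm, neg_neg]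
  rw [this, hs.W_mul, W_neg, inv_mul_cancel_right]

theorem coroot_eq (hs : Sys i α pp pm av) {X : Over S} (z : Γ(X.left, ⊤)ˣ) :
    H i av z = P pm ((↑z⁻¹ : Γ(X.left, ⊤)) - 1) * P pp 1 *
      P pm ((z : Γ(X.left, ⊤)) - 1) * P pp (-(↑z⁻¹ : Γ(X.left, ⊤))) := by
  rw [_root_.mul_assoc (P pm _) (P pp 1), hs.rule 1 ((z : Γ(X.left, ⊤)) - 1) z (by ring),
    _root_.one_mul, ← _root_.mul_assoc (P pm _), ← _root_.mul_assoc (P pm _), ← P_add,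
    _root_.mul_assoc, ← P_add, add_neg_cancel, P_zero, _root_.mul_one,
    show (↑z⁻¹ : Γ(X.left, ⊤)) - 1 + ((z : Γ(X.left, ⊤)) - 1) * (↑z⁻¹ : Γ(X.left, ⊤)) = 0 by
      linear_combination z.mul_inv, P_zero, _root_.one_mul]
  rfl

theorem rule_rev (hs : Sys i α pp pm av) {X : Over S} (a b : Γ(X.left, ⊤)) (u : Γ(X.left, ⊤)ˣ)
    (hu : (u : Γ(X.left, ⊤)) = 1 + a * b) :
    P pm b * P pp a = P pp (a * (↑u⁻¹ : Γ(X.left, ⊤))) * (H i av u)⁻¹ * P pm (b * (↑u⁻¹ : Γ(X.left, ⊤))) := by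
  have h := congrArg (·⁻¹) (hs.rule (-a) (-b) u (by linear_combination hu))
  simp only [P_neg, neg_mul, _root_.mul_inv_rev, _root_.inv_inv] at h
  simpa [H, _root_.mul_assoc] using h

theorem symm (hs : Sys i α pp pm av) [IsMonHom α] : Sys i α⁻¹ pm pp av⁻¹ where
  conjP := hs.conjM
  conjM t a := by
    rw [GrpObj.comp_inv, GrpObj.comp_inv]; rw [_root_.inv_inv (t ≫ α)]; exact hs.conjP t a
  sq u := by
    rw [GrpObj.comp_inv _ av, GrpObj.comp_inv _ α, GrpObj.inv_comp _ α]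
    exact (congrArg Red.gmFn (_root_.inv_inv _)).trans (hs.sq u)
  av_mul u v := by
    rw [GrpObj.comp_inv, GrpObj.comp_inv, GrpObj.comp_inv, mul_comm u v, hs.av_mul,
      _root_.mul_inv_rev]
  rule {X} a b u hu := by
    rw [hs.rule_rev b a u (by linear_combination hu), H, GrpObj.inv_comp, GrpObj.comp_inv]

end Sys

/-! ### An auxiliary faithfully flat cover -/

theorem exists_cover (X : Over S) : ∃ (X' : Over S) (c : X' ⟶ X), Epi c.left ∧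
    ∃ r s : Γ(X'.left, ⊤)ˣ, (r : Γ(X'.left, ⊤)) + s = 1 := by
  let f : Polynomial (ULift.{u} ℤ) := Polynomial.X ^ 2 + (-Polynomial.X + 1)
  have hf : f.Monic := Polynomial.monic_X_pow_add (by compute_degree!)
  let A := AdjoinRoot f
  have : Module.Free (ULift.{u} ℤ) A := hf.free_adjoinRoot
  have : IsDomain (ULift.{u} ℤ) := ULift.ringEquiv.toMulEquiv.isDomain ℤ
  have : Nontrivial A := AdjoinRoot.nontrivial f (by
    rw [Polynomial.degree_add_eq_left_of_degree_lt] <;> simp <;> compute_degree!)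
  have : Module.FaithfullyFlat (ULift.{u} ℤ) A := inferInstance
  let q : Spec (CommRingCat.of A) ⟶ Spec (CommRingCat.of (ULift.{u} ℤ)) :=
    Spec.map (CommRingCat.ofHom (algebraMap _ _))
  obtain ⟨hq, hq'⟩ : Flat q ∧ Surjective q := by
    rw [flat_and_surjective_SpecMap_iff]
    exact RingHom.faithfullyFlat_algebraMap_iff.2 (inferInstanceAs (Module.FaithfullyFlat (ULift.{u} ℤ) A))
  let Y := Limits.pullback (Limits.IsTerminal.from specULiftZIsTerminal X.left) q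
  let c : Y ⟶ X.left := Limits.pullback.fst _ _
  refine ⟨Over.mk (c ≫ X.hom), Over.homMk c, Flat.epi_of_flat_of_surjective c, ?_⟩
  let φ : A →+* Γ(Y, ⊤) := Points.ringHomOf (Limits.pullback.snd _ _)
  have hroot : AdjoinRoot.root f * (1 - AdjoinRoot.root f) = 1 := by
    have := AdjoinRoot.eval₂_root f
    simp [f] at this
    linear_combination -this
  refine ⟨Units.map φ.toMonoidHom ⟨_, _, hroot, (mul_comm _ _).trans hroot⟩,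
    Units.map φ.toMonoidHom ⟨_, _, (mul_comm _ _).trans hroot, hroot⟩, ?_⟩
  change φ _ + φ _ = 1
  rw [← map_add, add_sub_cancel, map_one]

theorem eq_of_epi {X X' : Over S} {c : X' ⟶ X} (hc : Epi c.left) {g h : X ⟶ G}
    (e : c ≫ g = c ≫ h) : g = h :=
  Over.OverMorphism.ext ((cancel_epi c.left).1 (congrArg CommaMorphism.left e))

namespace Sys

variable {i : T ⟶ G} {α : T ⟶ Red.Gm S} {pp pm : Red.Ga S ⟶ G} {av : Red.Gm S ⟶ T}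
  [IsMonHom i] [IsMonHom pp] [IsMonHom pm] [IsMonHom α]

theorem H_symm (hs : Sys i α pp pm av) {X : Over S} (u : Γ(X.left, ⊤)ˣ) :
    H i av⁻¹ u = (H i av u)⁻¹ := by
  rw [H, H, GrpObj.inv_comp, GrpObj.comp_inv]

theorem W_comp {X X' : Over S} (c : X' ⟶ X) (x : Γ(X.left, ⊤)ˣ) :
    c ≫ W pp pm x = W pp pm (Units.map c.left.appTop.hom.toMonoidHom x) := by
  simp [W, MonObj.comp_mul, P_comp]

/-- `pm(b) pp(a) pm(b) = pp(a) pm(b) pp(a)` when `a b = -1`. -/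
theorem W_symm (hs : Sys i α pp pm av) {X : Over S} (x : Γ(X.left, ⊤)ˣ) :
    W pm pp (-x⁻¹) = W pp pm x := by
  obtain ⟨X', c, hc, r, s, hrs⟩ := exists_cover X
  refine eq_of_epi hc ?_
  rw [W_comp, W_comp]
  generalize hb : Units.map c.left.appTop.hom.toMonoidHom (-x⁻¹) = y
  generalize ha : Units.map c.left.appTop.hom.toMonoidHom x = a
  have hy : y = -a⁻¹ := by
    rw [← hb, ← ha]; ext; simp
  subst hy
  clear hb ha
  have hV : ∀ c : Γ(X'.left, ⊤)ˣ,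
      W pm pp (c * -a⁻¹) = W pm pp (-a⁻¹) * H i av c := by
    intro c
    have e1 := hs.symm.W_mul c (-a⁻¹)
    have e2 := hs.symm.W_mul_H c (-a⁻¹)
    rw [hs.H_symm] at e1 e2
    rw [_root_.inv_inv (H i av c)] at e2
    rw [e1, inv_mul_eq_iff_eq_mul, ← _root_.mul_assoc, ← e2, inv_mul_cancel_right]
  have h1 := hs.rule (a : Γ(X'.left, ⊤)) (-(↑a⁻¹ : Γ(X'.left, ⊤)) * (s : Γ(X'.left, ⊤))) r
    (by linear_combination hrs + (s : Γ(X'.left, ⊤)) * a.mul_inv)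
  have h2 := hs.rule_rev (a : Γ(X'.left, ⊤)) (-(↑a⁻¹ : Γ(X'.left, ⊤)) * (r : Γ(X'.left, ⊤))) s
    (by linear_combination hrs + (r : Γ(X'.left, ⊤)) * a.mul_inv)
  symm
  calc W pp pm a
      = (P pp (a : Γ(X'.left, ⊤)) * P pm (-(↑a⁻¹ : Γ(X'.left, ⊤)) * (s : Γ(X'.left, ⊤)))) *
          (P pm (-(↑a⁻¹ : Γ(X'.left, ⊤)) * (r : Γ(X'.left, ⊤))) * P pp (a : Γ(X'.left, ⊤))) := by
        rw [W, _root_.mul_assoc (P pp _) (P pm _) (_ * P pp _), ← _root_.mul_assoc (P pm _) (P pm _),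
          ← P_add pm, ← mul_add, add_comm (s : Γ(X'.left, ⊤)), hrs, _root_.mul_one, _root_.mul_assoc]
    _ = P pm (((s * r⁻¹ * -a⁻¹ : Γ(X'.left, ⊤)ˣ) : Γ(X'.left, ⊤))) * (H i av r *
          P pp ((a : Γ(X'.left, ⊤)) * (↑r⁻¹ : Γ(X'.left, ⊤)) + (a : Γ(X'.left, ⊤)) *
            (↑s⁻¹ : Γ(X'.left, ⊤)))) * ((H i av s)⁻¹ *
          P pm (-(↑a⁻¹ : Γ(X'.left, ⊤)) * (r : Γ(X'.left, ⊤)) * (↑s⁻¹ : Γ(X'.left, ⊤)))) := by
        rw [h1, h2, P_add pp]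
        simp only [H, Units.val_mul, Units.val_neg, _root_.mul_assoc]
        congr 2
        · ring
    _ = P pm (((s * r⁻¹ * -a⁻¹ : Γ(X'.left, ⊤)ˣ) : Γ(X'.left, ⊤))) *
          P pp (-(↑(s * r⁻¹ * -a⁻¹)⁻¹ : Γ(X'.left, ⊤))) *
          (H i av (r * s⁻¹) *
            P pm (-(↑a⁻¹ : Γ(X'.left, ⊤)) * (r : Γ(X'.left, ⊤)) * (↑s⁻¹ : Γ(X'.left, ⊤)))) := by
        rw [hs.H_P, hs.H_mul, hs.H_inv]
        simp only [_root_.mul_assoc, _root_.mul_inv_rev, _root_.inv_inv, Units.val_mul, inv_neg,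
          Units.val_neg]
        congr 2
        · congr 1
          linear_combination ((a : Γ(X'.left, ⊤)) * r * (↑s⁻¹ : Γ(X'.left, ⊤))) * hrs +
            ((a : Γ(X'.left, ⊤)) * r) * r.mul_inv - ((a : Γ(X'.left, ⊤)) * r) * s.mul_inv
    _ = W pm pp (-a⁻¹) := by
        rw [hs.H_M, ← _root_.mul_assoc,
          show ((↑(r * s⁻¹)⁻¹ : Γ(X'.left, ⊤)) * (↑(r * s⁻¹)⁻¹ : Γ(X'.left, ⊤)) *
              (-(↑a⁻¹ : Γ(X'.left, ⊤)) * (r : Γ(X'.left, ⊤)) * (↑s⁻¹ : Γ(X'.left, ⊤)))) =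
            ((s * r⁻¹ * -a⁻¹ : Γ(X'.left, ⊤)ˣ) : Γ(X'.left, ⊤)) by
          simp only [_root_.mul_inv_rev, _root_.inv_inv, Units.val_mul, Units.val_neg]
          linear_combination (-(↑a⁻¹ : Γ(X'.left, ⊤)) * s * (↑r⁻¹ : Γ(X'.left, ⊤)) * s *
            (↑s⁻¹ : Γ(X'.left, ⊤))) * r.mul_inv +
            (-(↑a⁻¹ : Γ(X'.left, ⊤)) * s * (↑r⁻¹ : Γ(X'.left, ⊤))) * s.mul_inv]
        change W pm pp (s * r⁻¹ * -a⁻¹) * H i av (r * s⁻¹) = _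
        rw [hV, _root_.mul_assoc, ← hs.H_mul, _root_.mul_assoc s, inv_mul_cancel_left, mul_inv_cancel,
          hs.H_one, _root_.mul_one]

end Sys

end Groth.Agent.H82.RankOne
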